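import Mathlib
import Cfsg.Agent.Lib.Helper56.TC
import Cfsg.Agent.Lib.Helper56.Fi22b.D
set_option autoImplicit false
set_option maxRecDepth 1000000

namespace Cfsg.Agent.Lib.Helper56.Fi22b

open Cfsg.Agent.Lib.Helper56.TC Cfsg.Agent.Lib.Helper56.TC.Tabs

theorem cN_0 : allRange (fun x => forceN T.chkName x) 0 254 = true := by decide +kernel
theorem cN_254 : allRange (fun x => forceN T.chkName x) 254 258 = true := by decide +kernel
theorem cN_512 : allRange (fun x => forceN T.chkName x) 512 262 = true := by decide +kernel
theorem cN_774 : allRange (fun x => forceN T.chkName x) 774 260 = true := by decide +kernel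
theorem cN_1034 : allRange (fun x => forceN T.chkName x) 1034 262 = true := by decide +kernel
theorem cN_1296 : allRange (fun x => forceN T.chkName x) 1296 262 = true := by decide +kernel
theorem cN_1558 : allRange (fun x => forceN T.chkName x) 1558 261 = true := by decide +kernel
theorem cN_1819 : allRange (fun x => forceN T.chkName x) 1819 265 = true := by decide +kernel
theorem cN_2084 : allRange (fun x => forceN T.chkName x) 2084 262 = true := by decide +kernel
theorem cN_2346 : allRange (fun x => forceN T.chkName x) 2346 264 = true := by decide +kernel
theorem cN_2610 : allRange (fun x => forceN T.chkName x) 2610 261 = true := by decide +kernel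
theorem cN_2871 : allRange (fun x => forceN T.chkName x) 2871 265 = true := by decide +kernel

end Cfsg.Agent.Lib.Helper56.Fi22b
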