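import Mathlib
import Cfsg.Agent.Lib.Helper56.TC
import Cfsg.Agent.Lib.Helper56.Fi22b.D
set_option autoImplicit false
set_option maxRecDepth 1000000

namespace Cfsg.Agent.Lib.Helper56.Fi22b

open Cfsg.Agent.Lib.Helper56.TC Cfsg.Agent.Lib.Helper56.TC.Tabs

theorem cN_3136 : allRange (fun x => forceN T.chkName x) 3136 260 = true := by decide +kernel
theorem cN_3396 : allRange (fun x => forceN T.chkName x) 3396 265 = true := by decide +kernel
theorem cN_3661 : allRange (fun x => forceN T.chkName x) 3661 260 = true := by decide +kernel
theorem cN_3921 : allRange (fun x => forceN T.chkName x) 3921 258 = true := by decide +kernel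
theorem cN_4179 : allRange (fun x => forceN T.chkName x) 4179 266 = true := by decide +kernel
theorem cN_4445 : allRange (fun x => forceN T.chkName x) 4445 260 = true := by decide +kernel
theorem cN_4705 : allRange (fun x => forceN T.chkName x) 4705 254 = true := by decide +kernel
theorem cN_4959 : allRange (fun x => forceN T.chkName x) 4959 266 = true := by decide +kernel
theorem cN_5225 : allRange (fun x => forceN T.chkName x) 5225 263 = true := by decide +kernel
theorem cN_5488 : allRange (fun x => forceN T.chkName x) 5488 254 = true := by decide +kernel
theorem cN_5742 : allRange (fun x => forceN T.chkName x) 5742 257 = true := by decide +kernel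
theorem cN_5999 : allRange (fun x => forceN T.chkName x) 5999 266 = true := by decide +kernel

end Cfsg.Agent.Lib.Helper56.Fi22b
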