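import Mathlib
import Cfsg.Agent.Lib.Helper56.TC
import Cfsg.Agent.Lib.Helper56.Fi22b.D
set_option autoImplicit false
set_option maxRecDepth 1000000

namespace Cfsg.Agent.Lib.Helper56.Fi22b

open Cfsg.Agent.Lib.Helper56.TC Cfsg.Agent.Lib.Helper56.TC.Tabs

theorem cV_6000 : allRange (fun x => forceN T.chkV x) 6000 100 = true := by decide +kernel
theorem cV_6100 : allRange (fun x => forceN T.chkV x) 6100 100 = true := by decide +kernel
theorem cV_6200 : allRange (fun x => forceN T.chkV x) 6200 100 = true := by decide +kernel
theorem cV_6300 : allRange (fun x => forceN T.chkV x) 6300 100 = true := by decide +kernel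
theorem cV_6400 : allRange (fun x => forceN T.chkV x) 6400 100 = true := by decide +kernel
theorem cV_6500 : allRange (fun x => forceN T.chkV x) 6500 100 = true := by decide +kernel
theorem cV_6600 : allRange (fun x => forceN T.chkV x) 6600 100 = true := by decide +kernel
theorem cV_6700 : allRange (fun x => forceN T.chkV x) 6700 100 = true := by decide +kernel
theorem cV_6800 : allRange (fun x => forceN T.chkV x) 6800 100 = true := by decide +kernel
theorem cV_6900 : allRange (fun x => forceN T.chkV x) 6900 100 = true := by decide +kernel
theorem cV_7000 : allRange (fun x => forceN T.chkV x) 7000 100 = true := by decide +kernel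
theorem cV_7100 : allRange (fun x => forceN T.chkV x) 7100 100 = true := by decide +kernel

end Cfsg.Agent.Lib.Helper56.Fi22b
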