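import Mathlib
import Cfsg.Agent.Lib.Helper56.TC
import Cfsg.Agent.Lib.Helper56.Fi22b.D
set_option autoImplicit false
set_option maxRecDepth 1000000

namespace Cfsg.Agent.Lib.Helper56.Fi22b

open Cfsg.Agent.Lib.Helper56.TC Cfsg.Agent.Lib.Helper56.TC.Tabs

theorem cV_8400 : allRange (fun x => forceN T.chkV x) 8400 100 = true := by decide +kernel
theorem cV_8500 : allRange (fun x => forceN T.chkV x) 8500 100 = true := by decide +kernel
theorem cV_8600 : allRange (fun x => forceN T.chkV x) 8600 100 = true := by decide +kernel
theorem cV_8700 : allRange (fun x => forceN T.chkV x) 8700 100 = true := by decide +kernel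
theorem cV_8800 : allRange (fun x => forceN T.chkV x) 8800 100 = true := by decide +kernel
theorem cV_8900 : allRange (fun x => forceN T.chkV x) 8900 100 = true := by decide +kernel
theorem cV_9000 : allRange (fun x => forceN T.chkV x) 9000 100 = true := by decide +kernel
theorem cV_9100 : allRange (fun x => forceN T.chkV x) 9100 100 = true := by decide +kernel
theorem cV_9200 : allRange (fun x => forceN T.chkV x) 9200 100 = true := by decide +kernel
theorem cV_9300 : allRange (fun x => forceN T.chkV x) 9300 100 = true := by decide +kernel
theorem cV_9400 : allRange (fun x => forceN T.chkV x) 9400 100 = true := by decide +kernel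
theorem cV_9500 : allRange (fun x => forceN T.chkV x) 9500 100 = true := by decide +kernel

end Cfsg.Agent.Lib.Helper56.Fi22b
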