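import Mathlib
import Cfsg.Agent.Lib.Helper56.TC
import Cfsg.Agent.Lib.Helper56.Fi22b.D
set_option autoImplicit false
set_option maxRecDepth 1000000

namespace Cfsg.Agent.Lib.Helper56.Fi22b

open Cfsg.Agent.Lib.Helper56.TC Cfsg.Agent.Lib.Helper56.TC.Tabs

theorem cV_9600 : allRange (fun x => forceN T.chkV x) 9600 100 = true := by decide +kernel
theorem cV_9700 : allRange (fun x => forceN T.chkV x) 9700 100 = true := by decide +kernel
theorem cV_9800 : allRange (fun x => forceN T.chkV x) 9800 100 = true := by decide +kernel
theorem cV_9900 : allRange (fun x => forceN T.chkV x) 9900 100 = true := by decide +kernel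
theorem cV_10000 : allRange (fun x => forceN T.chkV x) 10000 100 = true := by decide +kernel
theorem cV_10100 : allRange (fun x => forceN T.chkV x) 10100 100 = true := by decide +kernel
theorem cV_10200 : allRange (fun x => forceN T.chkV x) 10200 100 = true := by decide +kernel
theorem cV_10300 : allRange (fun x => forceN T.chkV x) 10300 100 = true := by decide +kernel
theorem cV_10400 : allRange (fun x => forceN T.chkV x) 10400 100 = true := by decide +kernel
theorem cV_10500 : allRange (fun x => forceN T.chkV x) 10500 100 = true := by decide +kernel
theorem cV_10600 : allRange (fun x => forceN T.chkV x) 10600 100 = true := by decide +kernel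
theorem cV_10700 : allRange (fun x => forceN T.chkV x) 10700 100 = true := by decide +kernel

end Cfsg.Agent.Lib.Helper56.Fi22b
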