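import Mathlib
import Cfsg.Agent.Lib.Helper56.TC
import Cfsg.Agent.Lib.Helper56.Fi22b.D
set_option autoImplicit false
set_option maxRecDepth 1000000

namespace Cfsg.Agent.Lib.Helper56.Fi22b

open Cfsg.Agent.Lib.Helper56.TC Cfsg.Agent.Lib.Helper56.TC.Tabs

theorem cV_10800 : allRange (fun x => forceN T.chkV x) 10800 100 = true := by decide +kernel
theorem cV_10900 : allRange (fun x => forceN T.chkV x) 10900 100 = true := by decide +kernel
theorem cV_11000 : allRange (fun x => forceN T.chkV x) 11000 100 = true := by decide +kernel
theorem cV_11100 : allRange (fun x => forceN T.chkV x) 11100 100 = true := by decide +kernel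
theorem cV_11200 : allRange (fun x => forceN T.chkV x) 11200 100 = true := by decide +kernel
theorem cV_11300 : allRange (fun x => forceN T.chkV x) 11300 100 = true := by decide +kernel
theorem cV_11400 : allRange (fun x => forceN T.chkV x) 11400 100 = true := by decide +kernel
theorem cV_11500 : allRange (fun x => forceN T.chkV x) 11500 100 = true := by decide +kernel
theorem cV_11600 : allRange (fun x => forceN T.chkV x) 11600 100 = true := by decide +kernel
theorem cV_11700 : allRange (fun x => forceN T.chkV x) 11700 100 = true := by decide +kernel
theorem cV_11800 : allRange (fun x => forceN T.chkV x) 11800 100 = true := by decide +kernel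
theorem cV_11900 : allRange (fun x => forceN T.chkV x) 11900 100 = true := by decide +kernel

end Cfsg.Agent.Lib.Helper56.Fi22b
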