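import Mathlib
import Cfsg.Agent.Lib.Helper56.TC
import Cfsg.Agent.Lib.Helper56.Fi22b.D
set_option autoImplicit false
set_option maxRecDepth 1000000

namespace Cfsg.Agent.Lib.Helper56.Fi22b

open Cfsg.Agent.Lib.Helper56.TC Cfsg.Agent.Lib.Helper56.TC.Tabs

theorem cV_12000 : allRange (fun x => forceN T.chkV x) 12000 100 = true := by decide +kernel
theorem cV_12100 : allRange (fun x => forceN T.chkV x) 12100 100 = true := by decide +kernel
theorem cV_12200 : allRange (fun x => forceN T.chkV x) 12200 100 = true := by decide +kernel
theorem cV_12300 : allRange (fun x => forceN T.chkV x) 12300 100 = true := by decide +kernel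
theorem cV_12400 : allRange (fun x => forceN T.chkV x) 12400 100 = true := by decide +kernel
theorem cV_12500 : allRange (fun x => forceN T.chkV x) 12500 100 = true := by decide +kernel
theorem cV_12600 : allRange (fun x => forceN T.chkV x) 12600 100 = true := by decide +kernel
theorem cV_12700 : allRange (fun x => forceN T.chkV x) 12700 100 = true := by decide +kernel
theorem cV_12800 : allRange (fun x => forceN T.chkV x) 12800 100 = true := by decide +kernel
theorem cV_12900 : allRange (fun x => forceN T.chkV x) 12900 100 = true := by decide +kernel
theorem cV_13000 : allRange (fun x => forceN T.chkV x) 13000 100 = true := by decide +kernel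
theorem cV_13100 : allRange (fun x => forceN T.chkV x) 13100 100 = true := by decide +kernel

end Cfsg.Agent.Lib.Helper56.Fi22b
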