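import Mathlib
import Cfsg.Agent.Lib.Helper56.TC
import Cfsg.Agent.Lib.Helper56.Fi22b.D
set_option autoImplicit false
set_option maxRecDepth 1000000

namespace Cfsg.Agent.Lib.Helper56.Fi22b

open Cfsg.Agent.Lib.Helper56.TC Cfsg.Agent.Lib.Helper56.TC.Tabs

theorem cV_13200 : allRange (fun x => forceN T.chkV x) 13200 100 = true := by decide +kernel
theorem cV_13300 : allRange (fun x => forceN T.chkV x) 13300 100 = true := by decide +kernel
theorem cV_13400 : allRange (fun x => forceN T.chkV x) 13400 100 = true := by decide +kernel
theorem cV_13500 : allRange (fun x => forceN T.chkV x) 13500 100 = true := by decide +kernel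
theorem cV_13600 : allRange (fun x => forceN T.chkV x) 13600 100 = true := by decide +kernel
theorem cV_13700 : allRange (fun x => forceN T.chkV x) 13700 100 = true := by decide +kernel
theorem cV_13800 : allRange (fun x => forceN T.chkV x) 13800 100 = true := by decide +kernel
theorem cV_13900 : allRange (fun x => forceN T.chkV x) 13900 100 = true := by decide +kernel
theorem cV_14000 : allRange (fun x => forceN T.chkV x) 14000 80 = true := by decide +kernel

end Cfsg.Agent.Lib.Helper56.Fi22b
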