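import Mathlib
import Cfsg.Agent.Lib.Helper56.TC
import Cfsg.Agent.Lib.Helper56.Fi22b.D
set_option autoImplicit false
set_option maxRecDepth 1000000

namespace Cfsg.Agent.Lib.Helper56.Fi22b

open Cfsg.Agent.Lib.Helper56.TC Cfsg.Agent.Lib.Helper56.TC.Tabs

theorem cN_6265 : allRange (fun x => forceN T.chkName x) 6265 262 = true := by decide +kernel
theorem cN_6527 : allRange (fun x => forceN T.chkName x) 6527 256 = true := by decide +kernel
theorem cN_6783 : allRange (fun x => forceN T.chkName x) 6783 259 = true := by decide +kernel
theorem cN_7042 : allRange (fun x => forceN T.chkName x) 7042 265 = true := by decide +kernel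
theorem cN_7307 : allRange (fun x => forceN T.chkName x) 7307 260 = true := by decide +kernel
theorem cN_7567 : allRange (fun x => forceN T.chkName x) 7567 252 = true := by decide +kernel
theorem cN_7819 : allRange (fun x => forceN T.chkName x) 7819 265 = true := by decide +kernel
theorem cN_8084 : allRange (fun x => forceN T.chkName x) 8084 260 = true := by decide +kernel
theorem cN_8344 : allRange (fun x => forceN T.chkName x) 8344 256 = true := by decide +kernel
theorem cN_8600 : allRange (fun x => forceN T.chkName x) 8600 264 = true := by decide +kernel
theorem cN_8864 : allRange (fun x => forceN T.chkName x) 8864 262 = true := by decide +kernel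
theorem cN_9126 : allRange (fun x => forceN T.chkName x) 9126 257 = true := by decide +kernel

end Cfsg.Agent.Lib.Helper56.Fi22b
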