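import Mathlib
import Cfsg.Agent.Lib.Helper56.TC
import Cfsg.Agent.Lib.Helper56.Fi22b.D
set_option autoImplicit false
set_option maxRecDepth 1000000

namespace Cfsg.Agent.Lib.Helper56.Fi22b

open Cfsg.Agent.Lib.Helper56.TC Cfsg.Agent.Lib.Helper56.TC.Tabs

theorem cN_9383 : allRange (fun x => forceN T.chkName x) 9383 265 = true := by decide +kernel
theorem cN_9648 : allRange (fun x => forceN T.chkName x) 9648 264 = true := by decide +kernel
theorem cN_9912 : allRange (fun x => forceN T.chkName x) 9912 260 = true := by decide +kernel
theorem cN_10172 : allRange (fun x => forceN T.chkName x) 10172 265 = true := by decide +kernel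
theorem cN_10437 : allRange (fun x => forceN T.chkName x) 10437 260 = true := by decide +kernel
theorem cN_10697 : allRange (fun x => forceN T.chkName x) 10697 266 = true := by decide +kernel
theorem cN_10963 : allRange (fun x => forceN T.chkName x) 10963 262 = true := by decide +kernel
theorem cN_11225 : allRange (fun x => forceN T.chkName x) 11225 267 = true := by decide +kernel
theorem cN_11492 : allRange (fun x => forceN T.chkName x) 11492 263 = true := by decide +kernel
theorem cN_11755 : allRange (fun x => forceN T.chkName x) 11755 264 = true := by decide +kernel
theorem cN_12019 : allRange (fun x => forceN T.chkName x) 12019 266 = true := by decide +kernel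
theorem cN_12285 : allRange (fun x => forceN T.chkName x) 12285 263 = true := by decide +kernel

end Cfsg.Agent.Lib.Helper56.Fi22b
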