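import Mathlib
import Cfsg.Agent.Lib.Helper56.TC
import Cfsg.Agent.Lib.Helper56.Fi22b.D
set_option autoImplicit false
set_option maxRecDepth 1000000

namespace Cfsg.Agent.Lib.Helper56.Fi22b

open Cfsg.Agent.Lib.Helper56.TC Cfsg.Agent.Lib.Helper56.TC.Tabs

theorem cN_12548 : allRange (fun x => forceN T.chkName x) 12548 267 = true := by decide +kernel
theorem cN_12815 : allRange (fun x => forceN T.chkName x) 12815 264 = true := by decide +kernel
theorem cN_13079 : allRange (fun x => forceN T.chkName x) 13079 265 = true := by decide +kernel
theorem cN_13344 : allRange (fun x => forceN T.chkName x) 13344 265 = true := by decide +kernel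
theorem cN_13609 : allRange (fun x => forceN T.chkName x) 13609 263 = true := by decide +kernel
theorem cN_13872 : allRange (fun x => forceN T.chkName x) 13872 274 = true := by decide +kernel
theorem cN_14146 : allRange (fun x => forceN T.chkName x) 14146 318 = true := by decide +kernel
theorem cN_14464 : allRange (fun x => forceN T.chkName x) 14464 324 = true := by decide +kernel
theorem cN_14788 : allRange (fun x => forceN T.chkName x) 14788 326 = true := by decide +kernel
theorem cN_15114 : allRange (fun x => forceN T.chkName x) 15114 331 = true := by decide +kernel
theorem cN_15445 : allRange (fun x => forceN T.chkName x) 15445 346 = true := by decide +kernel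
theorem cN_15791 : allRange (fun x => forceN T.chkName x) 15791 41 = true := by decide +kernel

end Cfsg.Agent.Lib.Helper56.Fi22b
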