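import Mathlib
import Cfsg.Agent.Lib.Helper56.TC
import Cfsg.Agent.Lib.Helper56.Fi22b.D
set_option autoImplicit false
set_option maxRecDepth 1000000

namespace Cfsg.Agent.Lib.Helper56.Fi22b

open Cfsg.Agent.Lib.Helper56.TC Cfsg.Agent.Lib.Helper56.TC.Tabs

theorem cV_0 : allRange (fun x => forceN T.chkV x) 0 100 = true := by decide +kernel
theorem cV_100 : allRange (fun x => forceN T.chkV x) 100 100 = true := by decide +kernel
theorem cV_200 : allRange (fun x => forceN T.chkV x) 200 100 = true := by decide +kernel
theorem cV_300 : allRange (fun x => forceN T.chkV x) 300 100 = true := by decide +kernel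
theorem cV_400 : allRange (fun x => forceN T.chkV x) 400 100 = true := by decide +kernel
theorem cV_500 : allRange (fun x => forceN T.chkV x) 500 100 = true := by decide +kernel
theorem cV_600 : allRange (fun x => forceN T.chkV x) 600 100 = true := by decide +kernel
theorem cV_700 : allRange (fun x => forceN T.chkV x) 700 100 = true := by decide +kernel
theorem cV_800 : allRange (fun x => forceN T.chkV x) 800 100 = true := by decide +kernel
theorem cV_900 : allRange (fun x => forceN T.chkV x) 900 100 = true := by decide +kernel
theorem cV_1000 : allRange (fun x => forceN T.chkV x) 1000 100 = true := by decide +kernel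
theorem cV_1100 : allRange (fun x => forceN T.chkV x) 1100 100 = true := by decide +kernel

end Cfsg.Agent.Lib.Helper56.Fi22b
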