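import Mathlib
import Cfsg.Agent.Lib.Helper56.TC
import Cfsg.Agent.Lib.Helper56.Fi22b.D
set_option autoImplicit false
set_option maxRecDepth 1000000

namespace Cfsg.Agent.Lib.Helper56.Fi22b

open Cfsg.Agent.Lib.Helper56.TC Cfsg.Agent.Lib.Helper56.TC.Tabs

theorem cV_1200 : allRange (fun x => forceN T.chkV x) 1200 100 = true := by decide +kernel
theorem cV_1300 : allRange (fun x => forceN T.chkV x) 1300 100 = true := by decide +kernel
theorem cV_1400 : allRange (fun x => forceN T.chkV x) 1400 100 = true := by decide +kernel
theorem cV_1500 : allRange (fun x => forceN T.chkV x) 1500 100 = true := by decide +kernel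
theorem cV_1600 : allRange (fun x => forceN T.chkV x) 1600 100 = true := by decide +kernel
theorem cV_1700 : allRange (fun x => forceN T.chkV x) 1700 100 = true := by decide +kernel
theorem cV_1800 : allRange (fun x => forceN T.chkV x) 1800 100 = true := by decide +kernel
theorem cV_1900 : allRange (fun x => forceN T.chkV x) 1900 100 = true := by decide +kernel
theorem cV_2000 : allRange (fun x => forceN T.chkV x) 2000 100 = true := by decide +kernel
theorem cV_2100 : allRange (fun x => forceN T.chkV x) 2100 100 = true := by decide +kernel
theorem cV_2200 : allRange (fun x => forceN T.chkV x) 2200 100 = true := by decide +kernel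
theorem cV_2300 : allRange (fun x => forceN T.chkV x) 2300 100 = true := by decide +kernel

end Cfsg.Agent.Lib.Helper56.Fi22b
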