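import Mathlib
import Cfsg.Agent.Lib.Helper56.TC
import Cfsg.Agent.Lib.Helper56.Fi22b.D
set_option autoImplicit false
set_option maxRecDepth 1000000

namespace Cfsg.Agent.Lib.Helper56.Fi22b

open Cfsg.Agent.Lib.Helper56.TC Cfsg.Agent.Lib.Helper56.TC.Tabs

theorem cV_2400 : allRange (fun x => forceN T.chkV x) 2400 100 = true := by decide +kernel
theorem cV_2500 : allRange (fun x => forceN T.chkV x) 2500 100 = true := by decide +kernel
theorem cV_2600 : allRange (fun x => forceN T.chkV x) 2600 100 = true := by decide +kernel
theorem cV_2700 : allRange (fun x => forceN T.chkV x) 2700 100 = true := by decide +kernel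
theorem cV_2800 : allRange (fun x => forceN T.chkV x) 2800 100 = true := by decide +kernel
theorem cV_2900 : allRange (fun x => forceN T.chkV x) 2900 100 = true := by decide +kernel
theorem cV_3000 : allRange (fun x => forceN T.chkV x) 3000 100 = true := by decide +kernel
theorem cV_3100 : allRange (fun x => forceN T.chkV x) 3100 100 = true := by decide +kernel
theorem cV_3200 : allRange (fun x => forceN T.chkV x) 3200 100 = true := by decide +kernel
theorem cV_3300 : allRange (fun x => forceN T.chkV x) 3300 100 = true := by decide +kernel
theorem cV_3400 : allRange (fun x => forceN T.chkV x) 3400 100 = true := by decide +kernel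
theorem cV_3500 : allRange (fun x => forceN T.chkV x) 3500 100 = true := by decide +kernel

end Cfsg.Agent.Lib.Helper56.Fi22b
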