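import Mathlib
import Cfsg.Agent.Lib.Helper56.TC
import Cfsg.Agent.Lib.Helper56.Fi22b.D
set_option autoImplicit false
set_option maxRecDepth 1000000

namespace Cfsg.Agent.Lib.Helper56.Fi22b

open Cfsg.Agent.Lib.Helper56.TC Cfsg.Agent.Lib.Helper56.TC.Tabs

theorem cV_4800 : allRange (fun x => forceN T.chkV x) 4800 100 = true := by decide +kernel
theorem cV_4900 : allRange (fun x => forceN T.chkV x) 4900 100 = true := by decide +kernel
theorem cV_5000 : allRange (fun x => forceN T.chkV x) 5000 100 = true := by decide +kernel
theorem cV_5100 : allRange (fun x => forceN T.chkV x) 5100 100 = true := by decide +kernel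
theorem cV_5200 : allRange (fun x => forceN T.chkV x) 5200 100 = true := by decide +kernel
theorem cV_5300 : allRange (fun x => forceN T.chkV x) 5300 100 = true := by decide +kernel
theorem cV_5400 : allRange (fun x => forceN T.chkV x) 5400 100 = true := by decide +kernel
theorem cV_5500 : allRange (fun x => forceN T.chkV x) 5500 100 = true := by decide +kernel
theorem cV_5600 : allRange (fun x => forceN T.chkV x) 5600 100 = true := by decide +kernel
theorem cV_5700 : allRange (fun x => forceN T.chkV x) 5700 100 = true := by decide +kernel
theorem cV_5800 : allRange (fun x => forceN T.chkV x) 5800 100 = true := by decide +kernel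
theorem cV_5900 : allRange (fun x => forceN T.chkV x) 5900 100 = true := by decide +kernel

end Cfsg.Agent.Lib.Helper56.Fi22b
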