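import Mathlib
import Cfsg.Agent.Lib.Helper56.TC
import Cfsg.Agent.Lib.Helper56.Fi22b.C0
import Cfsg.Agent.Lib.Helper56.Fi22b.C1
import Cfsg.Agent.Lib.Helper56.Fi22b.C2
import Cfsg.Agent.Lib.Helper56.Fi22b.C3
import Cfsg.Agent.Lib.Helper56.Fi22b.C4
import Cfsg.Agent.Lib.Helper56.Fi22b.C5
import Cfsg.Agent.Lib.Helper56.Fi22b.C6
import Cfsg.Agent.Lib.Helper56.Fi22b.C7
import Cfsg.Agent.Lib.Helper56.Fi22b.C8
import Cfsg.Agent.Lib.Helper56.Fi22b.C9
import Cfsg.Agent.Lib.Helper56.Fi22b.C10
import Cfsg.Agent.Lib.Helper56.Fi22b.C11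
import Cfsg.Agent.Lib.Helper56.Fi22b.C12
import Cfsg.Agent.Lib.Helper56.Fi22b.C13
import Cfsg.Agent.Lib.Helper56.Fi22b.C14
import Cfsg.Agent.Lib.Helper56.Fi22b.C15
import Cfsg.Agent.Lib.Helper56.Fi22b.C16
set_option autoImplicit false
set_option maxRecDepth 1000000

namespace Cfsg.Agent.Lib.Helper56.Fi22b

open Cfsg.Agent.Lib.Helper56.TC Cfsg.Agent.Lib.Helper56.TC.Tabs

theorem uN_254 : Upto T.chkName 254 := upto_add (upto_zero T.chkName) rfl cN_0
theorem uN_512 : Upto T.chkName 512 := upto_add uN_254 rfl cN_254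
theorem uN_774 : Upto T.chkName 774 := upto_add uN_512 rfl cN_512
theorem uN_1034 : Upto T.chkName 1034 := upto_add uN_774 rfl cN_774
theorem uN_1296 : Upto T.chkName 1296 := upto_add uN_1034 rfl cN_1034
theorem uN_1558 : Upto T.chkName 1558 := upto_add uN_1296 rfl cN_1296
theorem uN_1819 : Upto T.chkName 1819 := upto_add uN_1558 rfl cN_1558
theorem uN_2084 : Upto T.chkName 2084 := upto_add uN_1819 rfl cN_1819
theorem uN_2346 : Upto T.chkName 2346 := upto_add uN_2084 rfl cN_2084
theorem uN_2610 : Upto T.chkName 2610 := upto_add uN_2346 rfl cN_2346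
theorem uN_2871 : Upto T.chkName 2871 := upto_add uN_2610 rfl cN_2610
theorem uN_3136 : Upto T.chkName 3136 := upto_add uN_2871 rfl cN_2871
theorem uN_3396 : Upto T.chkName 3396 := upto_add uN_3136 rfl cN_3136
theorem uN_3661 : Upto T.chkName 3661 := upto_add uN_3396 rfl cN_3396
theorem uN_3921 : Upto T.chkName 3921 := upto_add uN_3661 rfl cN_3661
theorem uN_4179 : Upto T.chkName 4179 := upto_add uN_3921 rfl cN_3921
theorem uN_4445 : Upto T.chkName 4445 := upto_add uN_4179 rfl cN_4179
theorem uN_4705 : Upto T.chkName 4705 := upto_add uN_4445 rfl cN_4445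
theorem uN_4959 : Upto T.chkName 4959 := upto_add uN_4705 rfl cN_4705
theorem uN_5225 : Upto T.chkName 5225 := upto_add uN_4959 rfl cN_4959
theorem uN_5488 : Upto T.chkName 5488 := upto_add uN_5225 rfl cN_5225
theorem uN_5742 : Upto T.chkName 5742 := upto_add uN_5488 rfl cN_5488
theorem uN_5999 : Upto T.chkName 5999 := upto_add uN_5742 rfl cN_5742
theorem uN_6265 : Upto T.chkName 6265 := upto_add uN_5999 rfl cN_5999
theorem uN_6527 : Upto T.chkName 6527 := upto_add uN_6265 rfl cN_6265
theorem uN_6783 : Upto T.chkName 6783 := upto_add uN_6527 rfl cN_6527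
theorem uN_7042 : Upto T.chkName 7042 := upto_add uN_6783 rfl cN_6783
theorem uN_7307 : Upto T.chkName 7307 := upto_add uN_7042 rfl cN_7042
theorem uN_7567 : Upto T.chkName 7567 := upto_add uN_7307 rfl cN_7307
theorem uN_7819 : Upto T.chkName 7819 := upto_add uN_7567 rfl cN_7567
theorem uN_8084 : Upto T.chkName 8084 := upto_add uN_7819 rfl cN_7819
theorem uN_8344 : Upto T.chkName 8344 := upto_add uN_8084 rfl cN_8084
theorem uN_8600 : Upto T.chkName 8600 := upto_add uN_8344 rfl cN_8344
theorem uN_8864 : Upto T.chkName 8864 := upto_add uN_8600 rfl cN_8600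
theorem uN_9126 : Upto T.chkName 9126 := upto_add uN_8864 rfl cN_8864
theorem uN_9383 : Upto T.chkName 9383 := upto_add uN_9126 rfl cN_9126
theorem uN_9648 : Upto T.chkName 9648 := upto_add uN_9383 rfl cN_9383
theorem uN_9912 : Upto T.chkName 9912 := upto_add uN_9648 rfl cN_9648
theorem uN_10172 : Upto T.chkName 10172 := upto_add uN_9912 rfl cN_9912
theorem uN_10437 : Upto T.chkName 10437 := upto_add uN_10172 rfl cN_10172
theorem uN_10697 : Upto T.chkName 10697 := upto_add uN_10437 rfl cN_10437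
theorem uN_10963 : Upto T.chkName 10963 := upto_add uN_10697 rfl cN_10697
theorem uN_11225 : Upto T.chkName 11225 := upto_add uN_10963 rfl cN_10963
theorem uN_11492 : Upto T.chkName 11492 := upto_add uN_11225 rfl cN_11225
theorem uN_11755 : Upto T.chkName 11755 := upto_add uN_11492 rfl cN_11492
theorem uN_12019 : Upto T.chkName 12019 := upto_add uN_11755 rfl cN_11755
theorem uN_12285 : Upto T.chkName 12285 := upto_add uN_12019 rfl cN_12019
theorem uN_12548 : Upto T.chkName 12548 := upto_add uN_12285 rfl cN_12285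
theorem uN_12815 : Upto T.chkName 12815 := upto_add uN_12548 rfl cN_12548
theorem uN_13079 : Upto T.chkName 13079 := upto_add uN_12815 rfl cN_12815
theorem uN_13344 : Upto T.chkName 13344 := upto_add uN_13079 rfl cN_13079
theorem uN_13609 : Upto T.chkName 13609 := upto_add uN_13344 rfl cN_13344
theorem uN_13872 : Upto T.chkName 13872 := upto_add uN_13609 rfl cN_13609
theorem uN_14146 : Upto T.chkName 14146 := upto_add uN_13872 rfl cN_13872
theorem uN_14464 : Upto T.chkName 14464 := upto_add uN_14146 rfl cN_14146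
theorem uN_14788 : Upto T.chkName 14788 := upto_add uN_14464 rfl cN_14464
theorem uN_15114 : Upto T.chkName 15114 := upto_add uN_14788 rfl cN_14788
theorem uN_15445 : Upto T.chkName 15445 := upto_add uN_15114 rfl cN_15114
theorem uN_15791 : Upto T.chkName 15791 := upto_add uN_15445 rfl cN_15445
theorem uN_15832 : Upto T.chkName 15832 := upto_add uN_15791 rfl cN_15791
theorem uV_100 : Upto T.chkV 100 := upto_add (upto_zero T.chkV) rfl cV_0
theorem uV_200 : Upto T.chkV 200 := upto_add uV_100 rfl cV_100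
theorem uV_300 : Upto T.chkV 300 := upto_add uV_200 rfl cV_200
theorem uV_400 : Upto T.chkV 400 := upto_add uV_300 rfl cV_300
theorem uV_500 : Upto T.chkV 500 := upto_add uV_400 rfl cV_400
theorem uV_600 : Upto T.chkV 600 := upto_add uV_500 rfl cV_500
theorem uV_700 : Upto T.chkV 700 := upto_add uV_600 rfl cV_600
theorem uV_800 : Upto T.chkV 800 := upto_add uV_700 rfl cV_700
theorem uV_900 : Upto T.chkV 900 := upto_add uV_800 rfl cV_800
theorem uV_1000 : Upto T.chkV 1000 := upto_add uV_900 rfl cV_900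
theorem uV_1100 : Upto T.chkV 1100 := upto_add uV_1000 rfl cV_1000
theorem uV_1200 : Upto T.chkV 1200 := upto_add uV_1100 rfl cV_1100
theorem uV_1300 : Upto T.chkV 1300 := upto_add uV_1200 rfl cV_1200
theorem uV_1400 : Upto T.chkV 1400 := upto_add uV_1300 rfl cV_1300
theorem uV_1500 : Upto T.chkV 1500 := upto_add uV_1400 rfl cV_1400
theorem uV_1600 : Upto T.chkV 1600 := upto_add uV_1500 rfl cV_1500
theorem uV_1700 : Upto T.chkV 1700 := upto_add uV_1600 rfl cV_1600
theorem uV_1800 : Upto T.chkV 1800 := upto_add uV_1700 rfl cV_1700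
theorem uV_1900 : Upto T.chkV 1900 := upto_add uV_1800 rfl cV_1800
theorem uV_2000 : Upto T.chkV 2000 := upto_add uV_1900 rfl cV_1900
theorem uV_2100 : Upto T.chkV 2100 := upto_add uV_2000 rfl cV_2000
theorem uV_2200 : Upto T.chkV 2200 := upto_add uV_2100 rfl cV_2100
theorem uV_2300 : Upto T.chkV 2300 := upto_add uV_2200 rfl cV_2200
theorem uV_2400 : Upto T.chkV 2400 := upto_add uV_2300 rfl cV_2300
theorem uV_2500 : Upto T.chkV 2500 := upto_add uV_2400 rfl cV_2400
theorem uV_2600 : Upto T.chkV 2600 := upto_add uV_2500 rfl cV_2500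
theorem uV_2700 : Upto T.chkV 2700 := upto_add uV_2600 rfl cV_2600
theorem uV_2800 : Upto T.chkV 2800 := upto_add uV_2700 rfl cV_2700
theorem uV_2900 : Upto T.chkV 2900 := upto_add uV_2800 rfl cV_2800
theorem uV_3000 : Upto T.chkV 3000 := upto_add uV_2900 rfl cV_2900
theorem uV_3100 : Upto T.chkV 3100 := upto_add uV_3000 rfl cV_3000
theorem uV_3200 : Upto T.chkV 3200 := upto_add uV_3100 rfl cV_3100
theorem uV_3300 : Upto T.chkV 3300 := upto_add uV_3200 rfl cV_3200
theorem uV_3400 : Upto T.chkV 3400 := upto_add uV_3300 rfl cV_3300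
theorem uV_3500 : Upto T.chkV 3500 := upto_add uV_3400 rfl cV_3400
theorem uV_3600 : Upto T.chkV 3600 := upto_add uV_3500 rfl cV_3500
theorem uV_3700 : Upto T.chkV 3700 := upto_add uV_3600 rfl cV_3600
theorem uV_3800 : Upto T.chkV 3800 := upto_add uV_3700 rfl cV_3700
theorem uV_3900 : Upto T.chkV 3900 := upto_add uV_3800 rfl cV_3800
theorem uV_4000 : Upto T.chkV 4000 := upto_add uV_3900 rfl cV_3900
theorem uV_4100 : Upto T.chkV 4100 := upto_add uV_4000 rfl cV_4000
theorem uV_4200 : Upto T.chkV 4200 := upto_add uV_4100 rfl cV_4100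
theorem uV_4300 : Upto T.chkV 4300 := upto_add uV_4200 rfl cV_4200
theorem uV_4400 : Upto T.chkV 4400 := upto_add uV_4300 rfl cV_4300
theorem uV_4500 : Upto T.chkV 4500 := upto_add uV_4400 rfl cV_4400
theorem uV_4600 : Upto T.chkV 4600 := upto_add uV_4500 rfl cV_4500
theorem uV_4700 : Upto T.chkV 4700 := upto_add uV_4600 rfl cV_4600
theorem uV_4800 : Upto T.chkV 4800 := upto_add uV_4700 rfl cV_4700
theorem uV_4900 : Upto T.chkV 4900 := upto_add uV_4800 rfl cV_4800
theorem uV_5000 : Upto T.chkV 5000 := upto_add uV_4900 rfl cV_4900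
theorem uV_5100 : Upto T.chkV 5100 := upto_add uV_5000 rfl cV_5000
theorem uV_5200 : Upto T.chkV 5200 := upto_add uV_5100 rfl cV_5100
theorem uV_5300 : Upto T.chkV 5300 := upto_add uV_5200 rfl cV_5200
theorem uV_5400 : Upto T.chkV 5400 := upto_add uV_5300 rfl cV_5300
theorem uV_5500 : Upto T.chkV 5500 := upto_add uV_5400 rfl cV_5400
theorem uV_5600 : Upto T.chkV 5600 := upto_add uV_5500 rfl cV_5500
theorem uV_5700 : Upto T.chkV 5700 := upto_add uV_5600 rfl cV_5600
theorem uV_5800 : Upto T.chkV 5800 := upto_add uV_5700 rfl cV_5700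
theorem uV_5900 : Upto T.chkV 5900 := upto_add uV_5800 rfl cV_5800
theorem uV_6000 : Upto T.chkV 6000 := upto_add uV_5900 rfl cV_5900
theorem uV_6100 : Upto T.chkV 6100 := upto_add uV_6000 rfl cV_6000
theorem uV_6200 : Upto T.chkV 6200 := upto_add uV_6100 rfl cV_6100
theorem uV_6300 : Upto T.chkV 6300 := upto_add uV_6200 rfl cV_6200
theorem uV_6400 : Upto T.chkV 6400 := upto_add uV_6300 rfl cV_6300
theorem uV_6500 : Upto T.chkV 6500 := upto_add uV_6400 rfl cV_6400
theorem uV_6600 : Upto T.chkV 6600 := upto_add uV_6500 rfl cV_6500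
theorem uV_6700 : Upto T.chkV 6700 := upto_add uV_6600 rfl cV_6600
theorem uV_6800 : Upto T.chkV 6800 := upto_add uV_6700 rfl cV_6700
theorem uV_6900 : Upto T.chkV 6900 := upto_add uV_6800 rfl cV_6800
theorem uV_7000 : Upto T.chkV 7000 := upto_add uV_6900 rfl cV_6900
theorem uV_7100 : Upto T.chkV 7100 := upto_add uV_7000 rfl cV_7000
theorem uV_7200 : Upto T.chkV 7200 := upto_add uV_7100 rfl cV_7100
theorem uV_7300 : Upto T.chkV 7300 := upto_add uV_7200 rfl cV_7200
theorem uV_7400 : Upto T.chkV 7400 := upto_add uV_7300 rfl cV_7300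
theorem uV_7500 : Upto T.chkV 7500 := upto_add uV_7400 rfl cV_7400
theorem uV_7600 : Upto T.chkV 7600 := upto_add uV_7500 rfl cV_7500
theorem uV_7700 : Upto T.chkV 7700 := upto_add uV_7600 rfl cV_7600
theorem uV_7800 : Upto T.chkV 7800 := upto_add uV_7700 rfl cV_7700
theorem uV_7900 : Upto T.chkV 7900 := upto_add uV_7800 rfl cV_7800
theorem uV_8000 : Upto T.chkV 8000 := upto_add uV_7900 rfl cV_7900
theorem uV_8100 : Upto T.chkV 8100 := upto_add uV_8000 rfl cV_8000
theorem uV_8200 : Upto T.chkV 8200 := upto_add uV_8100 rfl cV_8100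
theorem uV_8300 : Upto T.chkV 8300 := upto_add uV_8200 rfl cV_8200
theorem uV_8400 : Upto T.chkV 8400 := upto_add uV_8300 rfl cV_8300
theorem uV_8500 : Upto T.chkV 8500 := upto_add uV_8400 rfl cV_8400
theorem uV_8600 : Upto T.chkV 8600 := upto_add uV_8500 rfl cV_8500
theorem uV_8700 : Upto T.chkV 8700 := upto_add uV_8600 rfl cV_8600
theorem uV_8800 : Upto T.chkV 8800 := upto_add uV_8700 rfl cV_8700
theorem uV_8900 : Upto T.chkV 8900 := upto_add uV_8800 rfl cV_8800
theorem uV_9000 : Upto T.chkV 9000 := upto_add uV_8900 rfl cV_8900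
theorem uV_9100 : Upto T.chkV 9100 := upto_add uV_9000 rfl cV_9000
theorem uV_9200 : Upto T.chkV 9200 := upto_add uV_9100 rfl cV_9100
theorem uV_9300 : Upto T.chkV 9300 := upto_add uV_9200 rfl cV_9200
theorem uV_9400 : Upto T.chkV 9400 := upto_add uV_9300 rfl cV_9300
theorem uV_9500 : Upto T.chkV 9500 := upto_add uV_9400 rfl cV_9400
theorem uV_9600 : Upto T.chkV 9600 := upto_add uV_9500 rfl cV_9500
theorem uV_9700 : Upto T.chkV 9700 := upto_add uV_9600 rfl cV_9600
theorem uV_9800 : Upto T.chkV 9800 := upto_add uV_9700 rfl cV_9700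
theorem uV_9900 : Upto T.chkV 9900 := upto_add uV_9800 rfl cV_9800
theorem uV_10000 : Upto T.chkV 10000 := upto_add uV_9900 rfl cV_9900
theorem uV_10100 : Upto T.chkV 10100 := upto_add uV_10000 rfl cV_10000
theorem uV_10200 : Upto T.chkV 10200 := upto_add uV_10100 rfl cV_10100
theorem uV_10300 : Upto T.chkV 10300 := upto_add uV_10200 rfl cV_10200
theorem uV_10400 : Upto T.chkV 10400 := upto_add uV_10300 rfl cV_10300
theorem uV_10500 : Upto T.chkV 10500 := upto_add uV_10400 rfl cV_10400
theorem uV_10600 : Upto T.chkV 10600 := upto_add uV_10500 rfl cV_10500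
theorem uV_10700 : Upto T.chkV 10700 := upto_add uV_10600 rfl cV_10600
theorem uV_10800 : Upto T.chkV 10800 := upto_add uV_10700 rfl cV_10700
theorem uV_10900 : Upto T.chkV 10900 := upto_add uV_10800 rfl cV_10800
theorem uV_11000 : Upto T.chkV 11000 := upto_add uV_10900 rfl cV_10900
theorem uV_11100 : Upto T.chkV 11100 := upto_add uV_11000 rfl cV_11000
theorem uV_11200 : Upto T.chkV 11200 := upto_add uV_11100 rfl cV_11100
theorem uV_11300 : Upto T.chkV 11300 := upto_add uV_11200 rfl cV_11200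
theorem uV_11400 : Upto T.chkV 11400 := upto_add uV_11300 rfl cV_11300
theorem uV_11500 : Upto T.chkV 11500 := upto_add uV_11400 rfl cV_11400
theorem uV_11600 : Upto T.chkV 11600 := upto_add uV_11500 rfl cV_11500
theorem uV_11700 : Upto T.chkV 11700 := upto_add uV_11600 rfl cV_11600
theorem uV_11800 : Upto T.chkV 11800 := upto_add uV_11700 rfl cV_11700
theorem uV_11900 : Upto T.chkV 11900 := upto_add uV_11800 rfl cV_11800
theorem uV_12000 : Upto T.chkV 12000 := upto_add uV_11900 rfl cV_11900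
theorem uV_12100 : Upto T.chkV 12100 := upto_add uV_12000 rfl cV_12000
theorem uV_12200 : Upto T.chkV 12200 := upto_add uV_12100 rfl cV_12100
theorem uV_12300 : Upto T.chkV 12300 := upto_add uV_12200 rfl cV_12200
theorem uV_12400 : Upto T.chkV 12400 := upto_add uV_12300 rfl cV_12300
theorem uV_12500 : Upto T.chkV 12500 := upto_add uV_12400 rfl cV_12400
theorem uV_12600 : Upto T.chkV 12600 := upto_add uV_12500 rfl cV_12500
theorem uV_12700 : Upto T.chkV 12700 := upto_add uV_12600 rfl cV_12600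
theorem uV_12800 : Upto T.chkV 12800 := upto_add uV_12700 rfl cV_12700
theorem uV_12900 : Upto T.chkV 12900 := upto_add uV_12800 rfl cV_12800
theorem uV_13000 : Upto T.chkV 13000 := upto_add uV_12900 rfl cV_12900
theorem uV_13100 : Upto T.chkV 13100 := upto_add uV_13000 rfl cV_13000
theorem uV_13200 : Upto T.chkV 13200 := upto_add uV_13100 rfl cV_13100
theorem uV_13300 : Upto T.chkV 13300 := upto_add uV_13200 rfl cV_13200
theorem uV_13400 : Upto T.chkV 13400 := upto_add uV_13300 rfl cV_13300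
theorem uV_13500 : Upto T.chkV 13500 := upto_add uV_13400 rfl cV_13400
theorem uV_13600 : Upto T.chkV 13600 := upto_add uV_13500 rfl cV_13500
theorem uV_13700 : Upto T.chkV 13700 := upto_add uV_13600 rfl cV_13600
theorem uV_13800 : Upto T.chkV 13800 := upto_add uV_13700 rfl cV_13700
theorem uV_13900 : Upto T.chkV 13900 := upto_add uV_13800 rfl cV_13800
theorem uV_14000 : Upto T.chkV 14000 := upto_add uV_13900 rfl cV_13900
theorem uV_14080 : Upto T.chkV 14080 := upto_add uV_14000 rfl cV_14000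

/-- The certificate is valid. -/
theorem cert : T.Cert where
  h0 := by decide +kernel
  hrx := by decide +kernel
  hs0 := by decide +kernel
  hname := uN_15832
  hV := uV_14080

theorem orep_0 : T.orep 0 < T.N ∧ T.ol (T.orep 0) = 0 := by decide +kernel
theorem cnt_0 : countLt (fun v => Nat.beq (T.ol v) 0) T.N = 1 := by decide +kernel
theorem orep_1 : T.orep 1 < T.N ∧ T.ol (T.orep 1) = 1 := by decide +kernel
theorem cnt_1 : countLt (fun v => Nat.beq (T.ol v) 1) T.N = 3159 := by decide +kernel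
theorem orep_2 : T.orep 2 < T.N ∧ T.ol (T.orep 2) = 2 := by decide +kernel
theorem cnt_2 : countLt (fun v => Nat.beq (T.ol v) 2) T.N = 10920 := by decide +kernel

end Cfsg.Agent.Lib.Helper56.Fi22b
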