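import Mathlib
import Cfsg.Agent.Lib.Helper56.TC
import Cfsg.Agent.Lib.Helper56.Fi22b.D
set_option autoImplicit false
set_option maxRecDepth 1000000

namespace Cfsg.Agent.Lib.Helper56.Fi22b

open Cfsg.Agent.Lib.Helper56.TC Cfsg.Agent.Lib.Helper56.TC.Tabs

theorem cV_7200 : allRange (fun x => forceN T.chkV x) 7200 100 = true := by decide +kernel
theorem cV_7300 : allRange (fun x => forceN T.chkV x) 7300 100 = true := by decide +kernel
theorem cV_7400 : allRange (fun x => forceN T.chkV x) 7400 100 = true := by decide +kernel
theorem cV_7500 : allRange (fun x => forceN T.chkV x) 7500 100 = true := by decide +kernel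
theorem cV_7600 : allRange (fun x => forceN T.chkV x) 7600 100 = true := by decide +kernel
theorem cV_7700 : allRange (fun x => forceN T.chkV x) 7700 100 = true := by decide +kernel
theorem cV_7800 : allRange (fun x => forceN T.chkV x) 7800 100 = true := by decide +kernel
theorem cV_7900 : allRange (fun x => forceN T.chkV x) 7900 100 = true := by decide +kernel
theorem cV_8000 : allRange (fun x => forceN T.chkV x) 8000 100 = true := by decide +kernel
theorem cV_8100 : allRange (fun x => forceN T.chkV x) 8100 100 = true := by decide +kernel
theorem cV_8200 : allRange (fun x => forceN T.chkV x) 8200 100 = true := by decide +kernel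
theorem cV_8300 : allRange (fun x => forceN T.chkV x) 8300 100 = true := by decide +kernel

end Cfsg.Agent.Lib.Helper56.Fi22b
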